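import Mathlib

/-!
Subgroups of `Perm (Fin n)` permuting the first `q` blocks of size `b` as prescribed, and the
3-part of their order.
-/

set_option autoImplicit false

namespace Cfsg.Agent.ThreeMinAlt

open Equiv Equiv.Perm
open scoped Nat

variable {n b q : ℕ}

/-- Permutations preserving `{x | x < c}`. -/
def lowFix (n c : ℕ) : Subgroup (Perm (Fin n)) where
  carrier := {g | ∀ x : Fin n, (g x).val < c ↔ x.val < c}
  one_mem' := fun _ => Iff.rfl
  mul_mem' := fun hg hh x => (hg _).trans (hh x)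
  inv_mem' := fun {g} hg x => by
    have h := hg (g⁻¹ x)
    rw [show g (g⁻¹ x) = x from g.apply_symm_apply x] at h
    exact h.symm

theorem swap_mem_lowFix {c : ℕ} {a a' : Fin n} (h : a.val < c ↔ a'.val < c) : swap a a' ∈ lowFix n c := by
  intro x
  rw [swap_apply_def]
  split_ifs with h1 h2
  · rw [h1]; exact h.symm
  · rw [h2]; exact h
  · exact Iff.rfl

/-- The block of a point. -/
def blockIdx (hb : 0 < b) (x : Fin n) (hx : x.val < b * q) : Fin q :=
  ⟨x.val / b, (Nat.div_lt_iff_lt_mul hb).2 (by rwa [mul_comm])⟩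

theorem blockIdx_val (hb : 0 < b) (x : Fin n) (hx : x.val < b * q) : (blockIdx hb x hx).val = x.val / b := rfl

/-- The function moving blocks. -/
def liftFun (hb : 0 < b) (h : b * q ≤ n) (σ : Perm (Fin q)) (x : Fin n) : Fin n :=
  if hx : x.val < b * q then
    ⟨b * (σ (blockIdx hb x hx)).val + x.val % b, by
      have h1 := Nat.mod_lt x.val hb
      have h2 : b * ((σ (blockIdx hb x hx)).val + 1) ≤ b * q := Nat.mul_le_mul_left _ (σ (blockIdx hb x hx)).isLt
      rw [Nat.mul_add, mul_one] at h2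
      omega⟩
  else x

theorem liftFun_val (hb : 0 < b) (h : b * q ≤ n) (σ : Perm (Fin q)) {x : Fin n} (hx : x.val < b * q) :
    (liftFun hb h σ x).val = b * (σ (blockIdx hb x hx)).val + x.val % b ∧ (liftFun hb h σ x).val < b * q := by
  have h1 := Nat.mod_lt x.val hb
  have h2 : b * ((σ (blockIdx hb x hx)).val + 1) ≤ b * q := Nat.mul_le_mul_left _ (σ (blockIdx hb x hx)).isLt
  rw [Nat.mul_add, mul_one] at h2
  simp only [liftFun, dif_pos hx, true_and]
  omega

theorem liftFun_mul (hb : 0 < b) (h : b * q ≤ n) (σ τ : Perm (Fin q)) (x : Fin n) :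
    liftFun hb h σ (liftFun hb h τ x) = liftFun hb h (σ * τ) x := by
  by_cases hx : x.val < b * q
  · obtain ⟨h1, h2⟩ := liftFun_val hb h τ hx
    have hi : blockIdx hb (liftFun hb h τ x) h2 = τ (blockIdx hb x hx) := by
      apply Fin.ext
      rw [blockIdx_val, h1, Nat.mul_add_div hb, Nat.div_eq_of_lt (Nat.mod_lt _ hb), add_zero]
    apply Fin.ext
    rw [(liftFun_val hb h σ h2).1, (liftFun_val hb h (σ * τ) hx).1, hi, h1, Nat.mul_add_mod, Nat.mod_mod,
      mul_apply]
  · simp [liftFun, hx]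

theorem liftFun_one (hb : 0 < b) (h : b * q ≤ n) (x : Fin n) : liftFun hb h 1 x = x := by
  by_cases hx : x.val < b * q
  · apply Fin.ext
    rw [(liftFun_val hb h 1 hx).1, one_apply, blockIdx_val, Nat.div_add_mod]
  · simp [liftFun, hx]

/-- Moving blocks. -/
def lift (hb : 0 < b) (h : b * q ≤ n) : Perm (Fin q) →* Perm (Fin n) where
  toFun σ := ⟨liftFun hb h σ, liftFun hb h σ⁻¹,
    fun x => by rw [liftFun_mul, inv_mul_cancel, liftFun_one],
    fun x => by rw [liftFun_mul, mul_inv_cancel, liftFun_one]⟩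
  map_one' := Equiv.ext fun x => liftFun_one hb h x
  map_mul' σ τ := Equiv.ext fun x => (liftFun_mul hb h σ τ x).symm

/-- Permutations inducing an element of `J` on the first `q` blocks of size `b`. -/
def wr (hb : 0 < b) (h : b * q ≤ n) (J : Subgroup (Perm (Fin q))) : Subgroup (Perm (Fin n)) where
  carrier := {g | ∃ σ ∈ J, ∀ (x : Fin n) (hx : x.val < b * q),
    (g x).val < b * q ∧ (g x).val / b = (σ (blockIdx hb x hx)).val}
  one_mem' := ⟨1, J.one_mem, fun x hx => ⟨hx, rfl⟩⟩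
  mul_mem' := fun {g g'} ⟨σ, hσ, hg⟩ ⟨τ, hτ, hg'⟩ => ⟨σ * τ, J.mul_mem hσ hτ, fun x hx => by
    obtain ⟨h1, h2⟩ := hg' x hx
    obtain ⟨h3, h4⟩ := hg _ h1
    refine ⟨h3, ?_⟩
    show ((g (g' x))).val / b = _
    rw [h4, mul_apply]
    congr 2
    exact Fin.ext h2⟩
  inv_mem' := fun {g} ⟨σ, hσ, hg⟩ => ⟨σ⁻¹, J.inv_mem hσ, fun x hx => by
    have hsurj : ∀ z : {z : Fin n // z.val < b * q}, ∃ y : {z : Fin n // z.val < b * q}, g y.1 = z.1 := by
      intro z
      have hinj : Function.Injective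
          (fun y : {z : Fin n // z.val < b * q} => (⟨g y.1, (hg y.1 y.2).1⟩ : {z : Fin n // z.val < b * q})) :=
        fun y y' hyy => Subtype.ext (g.injective (congrArg Subtype.val hyy))
      obtain ⟨y, hy⟩ := Finite.injective_iff_surjective.1 hinj z
      exact ⟨y, congrArg Subtype.val hy⟩
    obtain ⟨⟨y, hy⟩, hgy⟩ := hsurj ⟨x, hx⟩
    have hxy : g⁻¹ x = y := Equiv.Perm.inv_eq_iff_eq.2 hgy.symm
    rw [hxy]
    refine ⟨hy, ?_⟩
    have h2 := (hg y hy).2
    simp only at hgy
    have h3 : blockIdx hb x hx = σ (blockIdx hb y hy) := Fin.ext (by rw [blockIdx_val, ← h2, hgy])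
    rw [h3, coe_inv, symm_apply_apply, blockIdx_val]⟩

theorem lift_mem_wr (hb : 0 < b) (h : b * q ≤ n) {J : Subgroup (Perm (Fin q))} {σ : Perm (Fin q)} (hσ : σ ∈ J) :
    lift hb h σ ∈ wr hb h J := by
  refine ⟨σ, hσ, fun x hx => ?_⟩
  obtain ⟨h1, h2⟩ := liftFun_val hb h σ hx
  refine ⟨h2, ?_⟩
  show (liftFun hb h σ x).val / b = _
  rw [h1, Nat.mul_add_div hb, Nat.div_eq_of_lt (Nat.mod_lt _ hb), add_zero]

theorem swap_mem_wr (hb : 0 < b) (h : b * q ≤ n) {J : Subgroup (Perm (Fin q))} {a a' : Fin n}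
    (ha : a.val < b * q) (ha' : a'.val < b * q) (h2 : a.val / b = a'.val / b) : swap a a' ∈ wr hb h J := by
  refine ⟨1, J.one_mem, fun x hx => ?_⟩
  rw [one_apply, blockIdx_val, swap_apply_def]
  split_ifs with h3 h4
  · exact ⟨ha', by rw [h3, h2]⟩
  · exact ⟨ha, by rw [h4, h2]⟩
  · exact ⟨hx, rfl⟩

theorem wr_le_lowFix (hb : 0 < b) (h : b * q ≤ n) {J : Subgroup (Perm (Fin q))} {d : ℕ} (hd : d ≤ q)
    (hJ : J ≤ lowFix q d) : wr hb h J ≤ lowFix n (b * d) := by
  rintro g hg x
  obtain ⟨σ, hσ, hσg⟩ := hg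
  have hbd : b * d ≤ b * q := Nat.mul_le_mul_left _ hd
  have key : ∀ y : Fin n, y.val < b * d ↔ y.val / b < d := fun y => by
    rw [Nat.div_lt_iff_lt_mul hb, mul_comm]
  by_cases hx : x.val < b * q
  · obtain ⟨h1, h2⟩ := hσg x hx
    rw [key, key, h2]
    exact (hJ hσ (blockIdx hb x hx))
  · have : ¬ (g x).val < b * q := by
      intro hh
      have h5 := (wr hb h J).inv_mem (show g ∈ wr hb h J from ⟨σ, hσ, hσg⟩)
      obtain ⟨τ, -, hτ⟩ := h5
      have := (hτ (g x) hh).1
      rw [coe_inv, symm_apply_apply] at this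
      exact hx this
    constructor <;> intro <;> omega

theorem wr_le_wr_top (hb : 0 < b) (h : b * q ≤ n) (J : Subgroup (Perm (Fin q))) :
    wr hb h J ≤ wr hb h ⊤ := fun _ ⟨σ, _, hg⟩ => ⟨σ, trivial, hg⟩

/-- Divisibility of the order of `wr`. -/
theorem card_wr_dvd (hb : 0 < b) (h : b * q ≤ n) (J : Subgroup (Perm (Fin q))) :
    (b !) ^ q * Nat.card J ∣ Nat.card (wr hb h J) := by
  classical
  have huniq : ∀ g : wr hb h J, ∃! σ : Perm (Fin q), σ ∈ J ∧ ∀ (x : Fin n) (hx : x.val < b * q),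
      ((g : Perm (Fin n)) x).val < b * q ∧ ((g : Perm (Fin n)) x).val / b = (σ (blockIdx hb x hx)).val := by
    intro g
    obtain ⟨σ, hσ, hg⟩ := g.2
    refine ⟨σ, ⟨hσ, hg⟩, fun τ hτ => Equiv.ext fun i => Fin.ext ?_⟩
    have h2 : b * (i.val + 1) ≤ b * q := Nat.mul_le_mul_left _ i.isLt
    rw [Nat.mul_add, mul_one] at h2
    let x : Fin n := ⟨b * i.val, by omega⟩
    have hx : x.val < b * q := by show b * i.val < b * q; omega
    have hbi : blockIdx hb x hx = i := Fin.ext (Nat.mul_div_cancel_left _ hb)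
    have e1 := (hτ.2 x hx).2
    have e2 := (hg x hx).2
    rw [hbi] at e1 e2
    rw [← e1, ← e2]
  choose π hπ hπu using huniq
  let pr : wr hb h J →* J := MonoidHom.mk' (fun g => ⟨π g, (hπ g).1⟩) fun g g' => by
    apply Subtype.ext
    refine (hπu (g * g') _ ⟨J.mul_mem (hπ g).1 (hπ g').1, fun x hx => ?_⟩).symm
    obtain ⟨h1, h2⟩ := (hπ g').2 x hx
    obtain ⟨h3, h4⟩ := (hπ g).2 _ h1
    refine ⟨h3, ?_⟩
    show ((g : Perm (Fin n)) ((g' : Perm (Fin n)) x)).val / b = _
    rw [h4, mul_apply]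
    congr 2
    exact Fin.ext h2
  have hsurj : Function.Surjective pr := fun σ => ⟨⟨lift hb h σ, lift_mem_wr hb h σ.2⟩,
    Subtype.ext (hπu ⟨lift hb h σ, lift_mem_wr hb h σ.2⟩ _ ⟨σ.2, fun x hx => by
      obtain ⟨h1, h2⟩ := liftFun_val hb h (σ : Perm (Fin q)) hx
      refine ⟨h2, ?_⟩
      show (liftFun hb h (σ : Perm (Fin q)) x).val / b = _
      rw [h1, Nat.mul_add_div hb, Nat.div_eq_of_lt (Nat.mod_lt _ hb), add_zero]⟩).symm⟩
  -- permutations inside the blocks
  let F : (Fin q → Perm (Fin b)) → Fin n → Fin n := fun f x =>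
    if hx : x.val < b * q then
      ⟨b * (x.val / b) + (f (blockIdx hb x hx) ⟨x.val % b, Nat.mod_lt _ hb⟩).val, by
        have h1 := (f (blockIdx hb x hx) ⟨x.val % b, Nat.mod_lt _ hb⟩).isLt
        have h2 : b * (x.val / b + 1) ≤ b * q := Nat.mul_le_mul_left _ (blockIdx hb x hx).isLt
        rw [Nat.mul_add, mul_one] at h2
        omega⟩
    else x
  have hFlt : ∀ f (x : Fin n), x.val < b * q → (F f x).val < b * q ∧ (F f x).val / b = x.val / b := by
    intro f x hx
    simp only [F, dif_pos hx]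
    have h1 := (f (blockIdx hb x hx) ⟨x.val % b, Nat.mod_lt _ hb⟩).isLt
    have h2 : b * (x.val / b + 1) ≤ b * q := Nat.mul_le_mul_left _ (blockIdx hb x hx).isLt
    rw [Nat.mul_add, mul_one] at h2
    refine ⟨by omega, ?_⟩
    rw [Nat.mul_add_div hb, Nat.div_eq_of_lt h1, add_zero]
  have hFmul : ∀ f f' x, F f (F f' x) = F (f * f') x := by
    intro f f' x
    by_cases hx : x.val < b * q
    · obtain ⟨h1, h2⟩ := hFlt f' x hx
      apply Fin.ext
      have hi : blockIdx hb (F f' x) h1 = blockIdx hb x hx := Fin.ext h2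
      have hm : (F f' x).val % b = (f' (blockIdx hb x hx) ⟨x.val % b, Nat.mod_lt _ hb⟩).val := by
        simp only [F, dif_pos hx, Nat.mul_add_mod]
        exact Nat.mod_eq_of_lt (f' (blockIdx hb x hx) ⟨x.val % b, Nat.mod_lt _ hb⟩).isLt
      have hm' : (⟨(F f' x).val % b, Nat.mod_lt _ hb⟩ : Fin b) = f' (blockIdx hb x hx) ⟨x.val % b, Nat.mod_lt _ hb⟩ :=
        Fin.ext hm
      conv_lhs => simp only [F, dif_pos h1]
      simp only [F] at h2 hi hm'
      simp only [F, dif_pos hx, Pi.mul_apply, mul_apply] at *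
      rw [h2, hi, hm']
    · simp [F, hx]
  have hFone : ∀ x, F 1 x = x := by
    intro x
    by_cases hx : x.val < b * q
    · apply Fin.ext
      simp only [F, dif_pos hx, Pi.one_apply, one_apply]
      exact Nat.div_add_mod _ _
    · simp [F, hx]
  let ins : (Fin q → Perm (Fin b)) →* Perm (Fin n) :=
    { toFun := fun f => ⟨F f, F f⁻¹, fun x => by rw [hFmul, inv_mul_cancel, hFone],
        fun x => by rw [hFmul, mul_inv_cancel, hFone]⟩
      map_one' := Equiv.ext hFone
      map_mul' := fun f f' => Equiv.ext fun x => (hFmul f f' x).symm }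
  have hins : ∀ f, ins f ∈ wr hb h J := fun f => ⟨1, J.one_mem, fun x hx => by
    obtain ⟨h1, h2⟩ := hFlt f x hx
    exact ⟨h1, h2⟩⟩
  let insK : (Fin q → Perm (Fin b)) →* pr.ker := MonoidHom.codRestrict (ins.codRestrict _ hins) _ fun f =>
    MonoidHom.mem_ker.2 (Subtype.ext (hπu ⟨ins f, hins f⟩ 1 ⟨J.one_mem, fun x hx => hFlt f x hx⟩).symm)
  have hinj : Function.Injective insK := by
    intro f f' hff
    have hff' : ins f = ins f' := congrArg (fun z : pr.ker => ((z : wr hb h J) : Perm (Fin n))) hff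
    funext i
    refine Equiv.ext fun j => Fin.ext ?_
    have h2 : b * (i.val + 1) ≤ b * q := Nat.mul_le_mul_left _ i.isLt
    rw [Nat.mul_add, mul_one] at h2
    have hj := j.isLt
    let x : Fin n := ⟨b * i.val + j.val, by omega⟩
    have hx : x.val < b * q := by show b * i.val + j.val < b * q; omega
    have hbi : blockIdx hb x hx = i := Fin.ext (by
      show (b * i.val + j.val) / b = i.val
      rw [Nat.mul_add_div hb, Nat.div_eq_of_lt hj, add_zero])
    have hjm : (⟨x.val % b, Nat.mod_lt _ hb⟩ : Fin b) = j := Fin.ext (by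
      show (b * i.val + j.val) % b = j.val
      rw [Nat.mul_add_mod, Nat.mod_eq_of_lt hj])
    have h3 : (F f x).val = (F f' x).val := congrArg (fun g : Perm (Fin n) => (g x).val) hff'
    simp only [F, dif_pos hx, hbi, hjm] at h3
    omega
  have hker : (b !) ^ q ∣ Nat.card pr.ker := by
    have := Subgroup.card_dvd_of_injective insK hinj
    rwa [Nat.card_fun, Nat.card_perm, Nat.card_fin, Nat.card_fin] at this
  rw [← pr.ker.card_mul_index, Subgroup.index_ker, MonoidHom.range_eq_top.2 hsurj, Subgroup.card_top]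
  exact Nat.mul_dvd_mul hker dvd_rfl

theorem card_lowFix_dvd {d : ℕ} (hd : d ≤ q) : d ! * (q - d) ! ∣ Nat.card (lowFix q d) := by
  classical
  let f : Perm {x : Fin q // x.val < d} × Perm {x : Fin q // ¬ x.val < d} →* lowFix q d :=
    (Equiv.Perm.subtypeCongrHom fun x : Fin q => x.val < d).codRestrict _ fun g x => by
      rcases g with ⟨u, v⟩
      by_cases hx : x.val < d
      · simp [Equiv.Perm.subtypeCongrHom, hx, (u ⟨x, hx⟩).2]
      · simp [Equiv.Perm.subtypeCongrHom, hx, (v ⟨x, hx⟩).2]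
  have hf : Function.Injective f := fun a c hac =>
    Equiv.Perm.subtypeCongrHom_injective _ (congrArg Subtype.val hac)
  have h := Subgroup.card_dvd_of_injective f hf
  have h1 : Nat.card {x : Fin q // x.val < d} = d := by
    rw [Nat.card_congr (⟨fun x => ⟨x.1.val, x.2⟩, fun i => ⟨⟨i.val, lt_of_lt_of_le i.isLt hd⟩, i.isLt⟩,
      fun x => rfl, fun i => rfl⟩ : {x : Fin q // x.val < d} ≃ Fin d), Nat.card_fin]
  have h2 : Nat.card {x : Fin q // ¬ x.val < d} = q - d := by
    rw [Nat.card_congr (⟨fun x => ⟨x.1.val - d, by have := x.2; have := x.1.isLt; omega⟩,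
      fun i => ⟨⟨i.val + d, by omega⟩, fun hlt => by simp at hlt⟩,
      fun x => Subtype.ext (Fin.ext (by have := x.2; simp only; omega)),
      fun i => Fin.ext (by simp)⟩ : {x : Fin q // ¬ x.val < d} ≃ Fin (q - d)), Nat.card_fin]
  rw [Nat.card_prod, Nat.card_perm, Nat.card_perm, h1, h2] at h
  exact h

theorem val_three_factorial_mul (m s : ℕ) (hs : s < 3) :
    padicValNat 3 (3 * m + s) ! = m + padicValNat 3 m ! := by
  haveI : Fact (Nat.Prime 3) := ⟨by norm_num⟩
  rw [padicValNat_factorial_mul_add m hs, padicValNat_factorial_mul]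
  omega

theorem val_three_split : ∀ (k q : ℕ), 3 ^ k ≤ q → q < 3 ^ (k + 1) →
    padicValNat 3 q ! = padicValNat 3 (3 ^ k) ! + padicValNat 3 (q - 3 ^ k) ! := by
  intro k
  induction k with
  | zero =>
    intro q h1 h2
    have hq : q = 1 ∨ q = 2 := by simp at h2; simp at h1; omega
    rcases hq with rfl | rfl <;> simp [Nat.factorial]
  | succ k ih =>
    intro q h1 h2
    have e : 3 ^ (k + 1) = 3 * 3 ^ k := by ring
    have e' : 3 ^ (k + 1 + 1) = 3 * (3 * 3 ^ k) := by ring
    have h := val_three_factorial_mul (q / 3) (q % 3) (Nat.mod_lt _ (by norm_num))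
    rw [Nat.div_add_mod] at h
    have h' := val_three_factorial_mul (3 ^ k) 0 (by norm_num)
    rw [add_zero, ← e] at h'
    have h'' := val_three_factorial_mul (q / 3 - 3 ^ k) (q % 3) (Nat.mod_lt _ (by norm_num))
    rw [show 3 * (q / 3 - 3 ^ k) + q % 3 = q - 3 ^ (k + 1) by omega] at h''
    have := ih (q / 3) (by omega) (by omega)
    omega

theorem val_three_pow (k : ℕ) : 2 * padicValNat 3 (3 ^ k) ! + 1 = 3 ^ k := by
  induction k with
  | zero => simp
  | succ k ih =>
    have h := val_three_factorial_mul (3 ^ k) 0 (by norm_num)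
    have e : 3 ^ (k + 1) = 3 * 3 ^ k := by ring
    rw [add_zero, ← e] at h
    omega

end Cfsg.Agent.ThreeMinAlt
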