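import Mathlib
import Cfsg.Agent.ThreeMinAlt.Wreath
import Cfsg.Agent.S2929

/-!
Two proper overgroups of a Sylow 3-subgroup generating the alternating group.
-/

set_option autoImplicit false

namespace Cfsg.Agent.ThreeMinAlt

open Equiv Equiv.Perm
open scoped Nat

variable {n : ℕ}

/-- The 3-cycle `c ↦ b ↦ a ↦ c`. -/
abbrev cyc (a b c : Fin n) : Perm (Fin n) := swap a b * swap a c

theorem cyc_apply_last (a b c : Fin n) : cyc a b c c = b := by simp [cyc]

theorem cyc_apply_first {a b c : Fin n} (hac : a ≠ c) (hbc : b ≠ c) : cyc a b c a = c := by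
  simp [cyc, swap_apply_of_ne_of_ne hac.symm hbc.symm]

theorem cyc_apply_mid {a b c : Fin n} (hab : a ≠ b) (hbc : b ≠ c) : cyc a b c b = a := by
  simp [cyc, swap_apply_of_ne_of_ne hab.symm hbc]

theorem isThreeCycle_cyc {a b c : Fin n} (hab : a.val ≠ b.val) (hac : a.val ≠ c.val)
    (hbc : b.val ≠ c.val) : (cyc a b c).IsThreeCycle :=
  isThreeCycle_swap_mul_swap_same (fun h => hab (congrArg Fin.val h)) (fun h => hac (congrArg Fin.val h))
    (fun h => hbc (congrArg Fin.val h))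

theorem cyc_mem_lowFix {d : ℕ} {a b c : Fin n} (hb : a.val < d ↔ b.val < d) (hc : a.val < d ↔ c.val < d) :
    cyc a b c ∈ lowFix n d := mul_mem (swap_mem_lowFix hb) (swap_mem_lowFix hc)

theorem not_alt_le_lowFix {d : ℕ} (hn : 3 ≤ n) (h0 : 0 < d) (hd : d < n) :
    ¬ alternatingGroup (Fin n) ≤ lowFix n d := by
  intro h
  obtain ⟨a, ha1, ha2⟩ : ∃ a : Fin n, a.val ≠ d ∧ a.val ≠ d - 1 := by
    by_contra hcon
    push Not at hcon
    have h1 := hcon ⟨0, by omega⟩
    have h2 := hcon ⟨1, by omega⟩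
    have h3 := hcon ⟨2, by omega⟩
    simp only at h1 h2 h3
    omega
  have hmem := h (isThreeCycle_cyc (a := a) (b := ⟨d, hd⟩) (c := ⟨d - 1, by omega⟩) ha1 ha2
    (by show d ≠ d - 1; omega)).mem_alternatingGroup ⟨d - 1, by omega⟩
  rw [cyc_apply_last] at hmem
  simp only at hmem
  omega

theorem not_alt_le_wr {b q : ℕ} (hb : 0 < b) (h : b * q ≤ n) (hb2 : 2 ≤ b) (hq : 2 ≤ q)
    (J : Subgroup (Perm (Fin q))) : ¬ alternatingGroup (Fin n) ≤ wr hb h J := by
  intro hle
  have hbq : 2 * b ≤ b * q := by rw [mul_comm 2 b]; exact Nat.mul_le_mul_left _ hq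
  let a : Fin n := ⟨b + 1, by omega⟩
  let u : Fin n := ⟨1, by omega⟩
  let w : Fin n := ⟨b, by omega⟩
  let z : Fin n := ⟨0, by omega⟩
  obtain ⟨σ, -, hσ⟩ := hle (isThreeCycle_cyc (a := a) (b := u) (c := w) (by show b + 1 ≠ 1; omega)
    (by show b + 1 ≠ b; omega) (by show 1 ≠ b; omega)).mem_alternatingGroup
  have h1 := (hσ w (by show b < b * q; omega)).2
  have h2 := (hσ z (by show 0 < b * q; omega)).2
  rw [cyc_apply_last] at h1
  have hz : cyc a u w z = z := by
    have e1 : z ≠ a := by simp [z, a, Fin.ext_iff]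
    have e2 : z ≠ u := by simp [z, u, Fin.ext_iff]
    have e3 : z ≠ w := by simp [z, w, Fin.ext_iff]; omega
    simp [cyc, swap_apply_of_ne_of_ne e1 e3, swap_apply_of_ne_of_ne e1 e2]
  rw [hz] at h2
  have h3 : σ (blockIdx hb w (by show b < b * q; omega)) = σ (blockIdx hb z (by show 0 < b * q; omega)) := by
    apply Fin.ext
    rw [← h1, ← h2]
    show 1 / b = 0 / b
    rw [Nat.div_eq_of_lt (by omega), Nat.zero_div]
  have h4 := congrArg Fin.val (σ.injective h3)
  simp only [blockIdx_val] at h4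
  change b / b = 0 / b at h4
  rw [Nat.div_self hb, Nat.zero_div] at h4
  exact one_ne_zero h4

theorem sign_eq_one_of_odd {α : Type*} [Fintype α] [DecidableEq α] {g : Perm α} {k : ℕ} (hk : Odd k)
    (hg : g ^ k = 1) : sign g = 1 := by
  obtain ⟨j, rfl⟩ := hk
  have h := congrArg sign hg
  rw [map_pow, map_one] at h
  rcases Int.units_eq_one_or (sign g) with h1 | h1
  · exact h1
  · rw [h1, pow_succ, pow_mul, Int.units_sq, one_pow, one_mul] at h
    exact absurd h (by decide)

/-- A group of even permutations connecting `0` to every point by 3-cycles is the alternating group. -/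
theorem alt_le_of_cycles (h5 : 5 ≤ n) (L : Subgroup (Perm (Fin n)))
    (h : ∀ x : Fin n, 2 ≤ x.val → ∃ d ∈ L, d.IsThreeCycle ∧ d ⟨0, by omega⟩ ≠ ⟨0, by omega⟩ ∧ d x ≠ x)
    (h' : ∃ d ∈ L, d.IsThreeCycle ∧ d ⟨0, by omega⟩ ≠ ⟨0, by omega⟩ ∧ d ⟨1, by omega⟩ ≠ ⟨1, by omega⟩) :
    alternatingGroup (Fin n) ≤ L := by
  obtain ⟨c, hcL, hc, hc0, hc1⟩ := h'
  obtain ⟨p, hp, f, -, hp0, -, hf, hdi, -⟩ := S2929.exists_block L hcL hc hc0
  have hall : ∀ x, p x := by
    intro x
    by_cases hx : 2 ≤ x.val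
    · obtain ⟨d, hdL, hd, hd0, hdx⟩ := h x hx
      exact ((hdi d hdL hd).resolve_right fun hh => hh _ hd0 hp0) x hdx
    · by_cases hx0 : x.val = 0
      · rwa [show x = ⟨0, by omega⟩ from Fin.ext hx0]
      · rw [show x = ⟨1, by omega⟩ from Fin.ext (by show x.val = 1; omega)]
        exact ((hdi c hcL hc).resolve_right fun hh => hh _ hc0 hp0) _ hc1
  intro g hg
  have hgp : ∀ x, p (g x) ↔ p x := fun x => iff_of_true (hall _) (hall _)
  have h2 : ofSubtype (g.subtypePerm hgp) = g := ofSubtype_subtypePerm hgp fun x _ => hall x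
  have h3 : g.subtypePerm hgp ∈ alternatingGroup {x // p x} := by
    rw [mem_alternatingGroup] at hg ⊢
    rwa [← sign_ofSubtype, h2]
  have := (f ⟨_, h3⟩).2
  rwa [hf, h2] at this

/-- The even permutations of two subgroups generate this subgroup of `Perm`. -/
abbrev join (K1 K2 : Subgroup (Perm (Fin n))) : Subgroup (Perm (Fin n)) :=
  (K1 ⊓ alternatingGroup (Fin n)) ⊔ (K2 ⊓ alternatingGroup (Fin n))

/-- Passing to the alternating group. -/
theorem reduce (hn : 5 ≤ n) (I K1 K2 : Subgroup (Perm (Fin n)))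
    (hI : 3 ^ padicValNat 3 n ! ∣ Nat.card I)
    (hK1 : ∀ g ∈ I, Odd (orderOf g) → g ∈ K1) (hK2 : ∀ g ∈ I, Odd (orderOf g) → g ∈ K2)
    (hn1 : ¬ alternatingGroup (Fin n) ≤ K1) (hn2 : ¬ alternatingGroup (Fin n) ≤ K2)
    (hgen : alternatingGroup (Fin n) ≤ join K1 K2) :
    ∃ (P : Sylow 3 (alternatingGroup (Fin n))) (H1 H2 : Subgroup (alternatingGroup (Fin n))),
      (P : Subgroup (alternatingGroup (Fin n))) ≤ H1 ∧ (P : Subgroup (alternatingGroup (Fin n))) ≤ H2 ∧
      H1 ≠ ⊤ ∧ H2 ≠ ⊤ ∧ H1 ⊔ H2 = ⊤ := by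
  haveI : Fact (Nat.Prime 3) := ⟨by norm_num⟩
  haveI : Nontrivial (Fin n) := Fin.nontrivial_iff_two_le.2 (by omega)
  set A := alternatingGroup (Fin n)
  have hA : (Nat.card A).factorization 3 = padicValNat 3 n ! := by
    rw [Nat.factorization_def _ (by norm_num : Nat.Prime 3)]
    have h2 : 2 * Nat.card A = n ! := by
      rw [two_mul_nat_card_alternatingGroup, Nat.card_perm, Nat.card_fin]
    rw [← h2, padicValNat.mul two_ne_zero Nat.card_pos.ne',
      padicValNat.eq_zero_of_not_dvd (by norm_num : ¬ 3 ∣ 2), zero_add]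
  obtain ⟨T, hT⟩ := Sylow.exists_subgroup_card_pow_prime 3 hI
  have hodd : ∀ t : T, Odd (orderOf ((t : I) : Perm (Fin n))) := by
    intro t
    rw [Subgroup.orderOf_coe, Subgroup.orderOf_coe]
    exact Odd.of_dvd_nat ((by decide : Odd 3).pow) (hT ▸ orderOf_dvd_natCard t)
  let T' : Subgroup (Perm (Fin n)) := T.map I.subtype
  have hT' : ∀ g ∈ T', g ∈ I ∧ Odd (orderOf g) := by
    rintro g ⟨t, ht, rfl⟩
    exact ⟨t.2, hodd ⟨t, ht⟩⟩
  have hTA : T' ≤ A := fun g hg =>
    mem_alternatingGroup.2 (sign_eq_one_of_odd (hT' g hg).2 (pow_orderOf_eq_one g))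
  have hcard : Nat.card (T'.subgroupOf A) = 3 ^ (Nat.card A).factorization 3 := by
    rw [Nat.card_congr (Subgroup.subgroupOfEquivOfLe hTA).toEquiv, hA, ← hT]
    exact (Nat.card_congr (Subgroup.equivMapOfInjective T _ I.subtype_injective).toEquiv).symm
  refine ⟨Sylow.ofCard _ hcard, K1.subgroupOf A, K2.subgroupOf A,
    fun x hx => hK1 _ (hT' _ hx).1 (hT' _ hx).2, fun x hx => hK2 _ (hT' _ hx).1 (hT' _ hx).2,
    fun h => hn1 (Subgroup.subgroupOf_eq_top.1 h), fun h => hn2 (Subgroup.subgroupOf_eq_top.1 h), ?_⟩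
  have h1 : join K1 K2 ≤ (K1.subgroupOf A ⊔ K2.subgroupOf A).map A.subtype := by
    rw [Subgroup.map_sup, Subgroup.subgroupOf_map_subtype, Subgroup.subgroupOf_map_subtype]
  rw [eq_top_iff]
  intro x _
  obtain ⟨y, hy, hxy⟩ := h1 (hgen x.2)
  rwa [← Subtype.ext hxy]

theorem pow_dvd_card_wr {q : ℕ} (h : 3 * q ≤ n) (hn : n < 3 * q + 3) {J : Subgroup (Perm (Fin q))}
    (hJ : 3 ^ padicValNat 3 q ! ∣ Nat.card J) :
    3 ^ padicValNat 3 n ! ∣ Nat.card (wr (by norm_num : 0 < 3) h J) := by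
  have hv : padicValNat 3 n ! = q + padicValNat 3 q ! := by
    have := val_three_factorial_mul q (n - 3 * q) (by omega)
    rwa [show 3 * q + (n - 3 * q) = n by omega] at this
  rw [hv, pow_add]
  exact (Nat.mul_dvd_mul (pow_dvd_pow_of_dvd (by decide : 3 ∣ 3 !) q) hJ).trans
    (card_wr_dvd (by norm_num) h J)

theorem pow_dvd_card_top (q : ℕ) : 3 ^ padicValNat 3 q ! ∣ Nat.card (⊤ : Subgroup (Perm (Fin q))) := by
  rw [Subgroup.card_top, Nat.card_perm, Nat.card_fin]
  exact pow_padicValNat_dvd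

theorem pow_dvd_card_lowFix {q : ℕ} (k : ℕ) (h1 : 3 ^ k ≤ q) (h2 : q < 3 ^ (k + 1)) :
    3 ^ padicValNat 3 q ! ∣ Nat.card (lowFix q (3 ^ k)) := by
  rw [val_three_split k q h1 h2, pow_add]
  exact (Nat.mul_dvd_mul pow_padicValNat_dvd pow_padicValNat_dvd).trans (card_lowFix_dvd h1)

theorem mem_left {K1 K2 : Subgroup (Perm (Fin n))} {g : Perm (Fin n)} (h : g ∈ K1) (hs : sign g = 1) :
    g ∈ join K1 K2 := Subgroup.mem_sup_left ⟨h, mem_alternatingGroup.2 hs⟩

theorem mem_right {K1 K2 : Subgroup (Perm (Fin n))} {g : Perm (Fin n)} (h : g ∈ K2) (hs : sign g = 1) :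
    g ∈ join K1 K2 := Subgroup.mem_sup_right ⟨h, mem_alternatingGroup.2 hs⟩

theorem conj_cycle {L : Subgroup (Perm (Fin n))} {g d : Perm (Fin n)} (hg : g ∈ L) (hd : d ∈ L)
    (h3 : d.IsThreeCycle) {u v u' v' : Fin n} (hu : d u ≠ u) (hv : d v ≠ v) (hu' : g u = u')
    (hv' : g v = v') :
    ∃ e ∈ L, e.IsThreeCycle ∧ e u' ≠ u' ∧ e v' ≠ v' := by
  refine ⟨g * d * g⁻¹, L.mul_mem (L.mul_mem hg hd) (L.inv_mem hg), ?_, ?_, ?_⟩
  · show cycleType (g * d * g⁻¹) = {3}
    rw [cycleType_conj]; exact h3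
  · rw [← hu', mul_apply, mul_apply, coe_inv, symm_apply_apply]
    exact fun h => hu (g.injective h)
  · rw [← hv', mul_apply, mul_apply, coe_inv, symm_apply_apply]
    exact fun h => hv (g.injective h)

theorem cyc_moves {a b c : Fin n} (hab : a.val ≠ b.val) (hac : a.val ≠ c.val) (hbc : b.val ≠ c.val) :
    cyc a b c a ≠ a ∧ cyc a b c b ≠ b ∧ cyc a b c c ≠ c := by
  have h1 : a ≠ b := fun h => hab (congrArg Fin.val h)
  have h2 : a ≠ c := fun h => hac (congrArg Fin.val h)
  have h3 : b ≠ c := fun h => hbc (congrArg Fin.val h)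
  rw [cyc_apply_first h2 h3, cyc_apply_mid h1 h3, cyc_apply_last]
  exact ⟨h2.symm, h1, h3⟩

theorem sign_cyc {a b c : Fin n} (hab : a.val ≠ b.val) (hac : a.val ≠ c.val) (hbc : b.val ≠ c.val) :
    sign (cyc a b c) = 1 := (isThreeCycle_cyc hab hac hbc).sign

/-- Case `n = 3 q + 2`. -/
theorem case_two {q : ℕ} (hq : 1 ≤ q) (hn : n = 3 * q + 2) :
    ∃ (P : Sylow 3 (alternatingGroup (Fin n))) (H1 H2 : Subgroup (alternatingGroup (Fin n))),
      (P : Subgroup (alternatingGroup (Fin n))) ≤ H1 ∧ (P : Subgroup (alternatingGroup (Fin n))) ≤ H2 ∧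
      H1 ≠ ⊤ ∧ H2 ≠ ⊤ ∧ H1 ⊔ H2 = ⊤ := by
  have h : 3 * q ≤ n := by omega
  have hI : wr (by norm_num : 0 < 3) h ⊤ ≤ lowFix n (3 * q) :=
    wr_le_lowFix _ h le_rfl fun g _ x => iff_of_true (g x).isLt x.isLt
  refine reduce (by omega) (wr (by norm_num) h ⊤) (lowFix n (3 * q)) (lowFix n (n - 1))
    (pow_dvd_card_wr h (by omega) (pow_dvd_card_top q)) (fun g hg _ => hI hg) ?_
    (not_alt_le_lowFix (by omega) (by omega) (by omega)) (not_alt_le_lowFix (by omega) (by omega) (by omega)) ?_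
  · intro g hg hodd
    have hl := hI hg
    have h2 : g * g ∈ lowFix n (n - 1) := by
      let z : Fin n := ⟨n - 1, by omega⟩
      have hz : (g * g) z = z := by
        rw [mul_apply]
        have e1 : ¬ (g z).val < 3 * q := fun hh => by
          have := (hl z).1 hh; simp only [z] at this; omega
        have e2 : ¬ (g (g z)).val < 3 * q := fun hh => e1 ((hl _).1 hh)
        by_cases e3 : g z = z
        · rw [e3, e3]
        · have e4 : g (g z) ≠ g z := fun hh => e3 (g.injective hh)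
          rw [Fin.ext_iff] at e3 ⊢
          rw [Ne, Fin.ext_iff] at e4
          have := (g z).isLt
          have := (g (g z)).isLt
          simp only [z] at *
          omega
      intro x
      have key : ∀ y : Fin n, y.val < n - 1 ↔ y ≠ z := fun y => by
        have := y.isLt
        simp only [z, Ne, Fin.ext_iff]; omega
      rw [key, key]
      exact ⟨fun h1 h3 => h1 (h3 ▸ hz), fun h1 h3 => h1 ((g * g).injective (h3.trans hz.symm))⟩
    obtain ⟨j, hj⟩ := hodd
    have : g = (g * g) ^ (j + 1) := by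
      rw [← sq, ← pow_mul, show 2 * (j + 1) = orderOf g + 1 by omega, pow_succ, pow_orderOf_eq_one, one_mul]
    rw [this]
    exact pow_mem h2 _
  · let z0 : Fin n := ⟨0, by omega⟩
    let z1 : Fin n := ⟨1, by omega⟩
    have hlow : ∀ x : Fin n, 2 ≤ x.val → x.val < n - 1 →
        cyc z0 z1 x ∈ join (lowFix n (3 * q)) (lowFix n (n - 1)) := fun x h2 hx =>
      mem_right (cyc_mem_lowFix (by simp only [z0, z1]; omega) (by simp only [z0]; omega))
        (sign_cyc (by simp [z0, z1]) (by simp only [z0]; omega) (by simp only [z1]; omega))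
    refine alt_le_of_cycles (by omega) _ ?_ ?_
    · intro x h2
      by_cases hx : x.val < n - 1
      · obtain ⟨m1, -, m3⟩ := cyc_moves (a := z0) (b := z1) (c := x) (by simp [z0, z1])
          (by simp only [z0]; omega) (by simp only [z1]; omega)
        exact ⟨_, hlow x h2 hx, isThreeCycle_cyc (by simp [z0, z1]) (by simp only [z0]; omega)
          (by simp only [z1]; omega), m1, m3⟩
      · let w : Fin n := ⟨n - 2, by omega⟩
        let t : Perm (Fin n) := swap z0 z1 * swap w x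
        have hxv : x.val = n - 1 := by have := x.isLt; omega
        have ht : t ∈ join (lowFix n (3 * q)) (lowFix n (n - 1)) := by
          refine mem_left (mul_mem (swap_mem_lowFix (by simp only [z0, z1]; omega))
            (swap_mem_lowFix (by simp only [w]; omega))) ?_
          have e1 : z0 ≠ z1 := by simp [z0, z1]
          have e2 : w ≠ x := by simp only [w, Ne, Fin.ext_iff]; omega
          simp [t, sign_swap e1, sign_swap e2]
        obtain ⟨-, m2, m3⟩ := cyc_moves (a := z0) (b := z1) (c := w) (by simp [z0, z1])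
          (by simp only [z0, w]; omega) (by simp only [z1, w]; omega)
        refine conj_cycle ht (hlow w (by simp only [w]; omega) (by simp only [w]; omega))
          (isThreeCycle_cyc (by simp [z0, z1]) (by simp only [z0, w]; omega) (by simp only [z1, w]; omega))
          m2 m3 ?_ ?_
        · have e1 : z1 ≠ w := by simp only [z1, w, Ne, Fin.ext_iff]; omega
          have e2 : z1 ≠ x := by simp only [z1, Ne, Fin.ext_iff]; omega
          simp [t, swap_apply_of_ne_of_ne e1 e2, z0]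
        · have e1 : x ≠ z0 := by simp only [z0, Ne, Fin.ext_iff]; omega
          have e2 : x ≠ z1 := by simp only [z1, Ne, Fin.ext_iff]; omega
          simp [t, swap_apply_of_ne_of_ne e1 e2]
    · let z2 : Fin n := ⟨2, by omega⟩
      obtain ⟨m1, m2, -⟩ := cyc_moves (a := z0) (b := z1) (c := z2) (by simp [z0, z1]) (by simp [z0, z2])
        (by simp [z1, z2])
      exact ⟨_, hlow z2 le_rfl (by simp only [z2]; omega),
        isThreeCycle_cyc (by simp [z0, z1]) (by simp [z0, z2]) (by simp [z1, z2]), m1, m2⟩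

/-- Case `n = 3 q + 1`, `q` not a power of 3. -/
theorem case_one {q k : ℕ} (hn : n = 3 * q + 1) (h1 : 3 ^ k < q) (h2 : q < 3 ^ (k + 1)) :
    ∃ (P : Sylow 3 (alternatingGroup (Fin n))) (H1 H2 : Subgroup (alternatingGroup (Fin n))),
      (P : Subgroup (alternatingGroup (Fin n))) ≤ H1 ∧ (P : Subgroup (alternatingGroup (Fin n))) ≤ H2 ∧
      H1 ≠ ⊤ ∧ H2 ≠ ⊤ ∧ H1 ⊔ H2 = ⊤ := by
  have h : 3 * q ≤ n := by omega
  have hk : 0 < 3 ^ k := by positivity
  refine reduce (by omega) (wr (by norm_num) h (lowFix q (3 ^ k))) (lowFix n (3 * q)) (lowFix n (3 * 3 ^ k))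
    (pow_dvd_card_wr h (by omega) (pow_dvd_card_lowFix k h1.le h2))
    (fun g hg _ => wr_le_lowFix _ h le_rfl (fun g _ x => iff_of_true (g x).isLt x.isLt) hg)
    (fun g hg _ => wr_le_lowFix _ h h1.le le_rfl hg)
    (not_alt_le_lowFix (by omega) (by omega) (by omega)) (not_alt_le_lowFix (by omega) (by omega) (by omega)) ?_
  let z0 : Fin n := ⟨0, by omega⟩
  let z1 : Fin n := ⟨1, by omega⟩
  have hlow : ∀ x : Fin n, 2 ≤ x.val → x.val < 3 * q →
      cyc z0 z1 x ∈ join (lowFix n (3 * q)) (lowFix n (3 * 3 ^ k)) := fun x h2 hx =>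
    mem_left (cyc_mem_lowFix (by simp only [z0, z1]; omega) (by simp only [z0]; omega))
      (sign_cyc (by simp [z0, z1]) (by simp only [z0]; omega) (by simp only [z1]; omega))
  refine alt_le_of_cycles (by omega) _ ?_ ?_
  · intro x h2x
    by_cases hx : x.val < 3 * q
    · obtain ⟨m1, -, m3⟩ := cyc_moves (a := z0) (b := z1) (c := x) (by simp [z0, z1])
        (by simp only [z0]; omega) (by simp only [z1]; omega)
      exact ⟨_, hlow x h2x hx, isThreeCycle_cyc (by simp [z0, z1]) (by simp only [z0]; omega)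
        (by simp only [z1]; omega), m1, m3⟩
    · let w : Fin n := ⟨3 * 3 ^ k, by omega⟩
      let w' : Fin n := ⟨3 * 3 ^ k + 1, by omega⟩
      have hxv : x.val = 3 * q := by have := x.isLt; omega
      have he : cyc w' x w ∈ join (lowFix n (3 * q)) (lowFix n (3 * 3 ^ k)) :=
        mem_right (cyc_mem_lowFix (by simp only [w']; omega) (by simp only [w', w]; omega))
          (sign_cyc (by simp only [w']; omega) (by simp [w', w]) (by simp only [w]; omega))
      obtain ⟨m1, -, m3⟩ := cyc_moves (a := z0) (b := z1) (c := w) (by simp [z0, z1])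
        (by simp only [z0, w]; omega) (by simp only [z1, w]; omega)
      refine conj_cycle he (hlow w (by simp only [w]; omega) (by simp only [w]; omega))
        (isThreeCycle_cyc (by simp [z0, z1]) (by simp only [z0, w]; omega) (by simp only [z1, w]; omega))
        m1 m3 ?_ (cyc_apply_last _ _ _)
      have e1 : z0 ≠ w := by simp only [z0, w, Ne, Fin.ext_iff]; omega
      have e2 : z0 ≠ w' := by simp [z0, w', Fin.ext_iff]
      have e3 : z0 ≠ x := by simp only [z0, Ne, Fin.ext_iff]; omega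
      simp [cyc, swap_apply_of_ne_of_ne e2 e1, swap_apply_of_ne_of_ne e2 e3, z0]
  · let z2 : Fin n := ⟨2, by omega⟩
    obtain ⟨m1, m2, -⟩ := cyc_moves (a := z0) (b := z1) (c := z2) (by simp [z0, z1]) (by simp [z0, z2])
      (by simp [z1, z2])
    exact ⟨_, hlow z2 le_rfl (by simp only [z2]; omega),
      isThreeCycle_cyc (by simp [z0, z1]) (by simp [z0, z2]) (by simp [z1, z2]), m1, m2⟩

/-- Generation for `n = 3 q`. -/
theorem gen_zero {q c : ℕ} (hn : n = 3 * q) (hc : 3 ≤ c) (hcq : c < q) (K : Subgroup (Perm (Fin n)))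
    (hK : ∀ x : Fin n, 2 ≤ x.val → x.val < 3 * c →
      cyc (⟨0, by omega⟩ : Fin n) ⟨1, by omega⟩ x ∈ K) :
    alternatingGroup (Fin n) ≤ join K (wr (b := 3) (q := q) (by norm_num) hn.ge ⊤) := by
  let z0 : Fin n := ⟨0, by omega⟩
  let z1 : Fin n := ⟨1, by omega⟩
  have hlow : ∀ x : Fin n, 2 ≤ x.val → x.val < 3 * c →
      cyc z0 z1 x ∈ join K (wr (b := 3) (q := q) (by norm_num) hn.ge ⊤) := fun x h2 hx =>
    mem_left (hK x h2 hx) (sign_cyc (by simp [z0, z1]) (by simp only [z0]; omega) (by simp only [z1]; omega))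
  refine alt_le_of_cycles (by omega) _ ?_ ?_
  · intro x h2x
    by_cases hx : x.val < 3 * c
    · obtain ⟨m1, -, m3⟩ := cyc_moves (a := z0) (b := z1) (c := x) (by simp [z0, z1])
        (by simp only [z0]; omega) (by simp only [z1]; omega)
      exact ⟨_, hlow x h2x hx, isThreeCycle_cyc (by simp [z0, z1]) (by simp only [z0]; omega)
        (by simp only [z1]; omega), m1, m3⟩
    · have hxlt := x.isLt
      let j : Fin q := ⟨x.val / 3, by omega⟩
      let i1 : Fin q := ⟨1, by omega⟩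
      let i2 : Fin q := ⟨2, by omega⟩
      have h3 : (cyc i2 j i1).IsThreeCycle :=
        isThreeCycle_cyc (by simp only [i2, j]; omega) (by simp [i2, i1]) (by simp only [j, i1]; omega)
      have hl : lift (by norm_num) hn.ge (cyc i2 j i1) ∈ join K (wr (b := 3) (q := q) (by norm_num) hn.ge ⊤) := by
        refine mem_right (lift_mem_wr _ _ (Subgroup.mem_top _)) (sign_eq_one_of_odd (k := 3) (by decide) ?_)
        have h4 := pow_orderOf_eq_one (cyc i2 j i1)
        rw [h3.orderOf] at h4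
        rw [← map_pow, h4, map_one]
      let w : Fin n := ⟨3 + x.val % 3, by omega⟩
      obtain ⟨m1, -, m3⟩ := cyc_moves (a := z0) (b := z1) (c := w) (by simp [z0, z1])
        (by simp only [z0, w]; omega) (by simp only [z1, w]; omega)
      refine conj_cycle hl (hlow w (by simp only [w]; omega) (by simp only [w]; omega))
        (isThreeCycle_cyc (by simp [z0, z1]) (by simp only [z0, w]; omega) (by simp only [z1, w]; omega))
        m1 m3 ?_ ?_
      · show liftFun (by norm_num) hn.ge (cyc i2 j i1) z0 = z0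
        apply Fin.ext
        have hz : z0.val < 3 * q := by simp only [z0]; omega
        rw [(liftFun_val _ _ _ hz).1]
        have hi : blockIdx (by norm_num : 0 < 3) z0 hz = (⟨0, by omega⟩ : Fin q) := Fin.ext (by simp [blockIdx_val, z0])
        rw [hi]
        have e1 : (⟨0, by omega⟩ : Fin q) ≠ i2 := by simp [i2, Fin.ext_iff]
        have e2 : (⟨0, by omega⟩ : Fin q) ≠ i1 := by simp [i1, Fin.ext_iff]
        have e3 : (⟨0, by omega⟩ : Fin q) ≠ j := by simp only [j, Ne, Fin.ext_iff]; omega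
        simp [cyc, swap_apply_of_ne_of_ne e1 e2, swap_apply_of_ne_of_ne e1 e3, z0]
      · show liftFun (by norm_num) hn.ge (cyc i2 j i1) w = x
        apply Fin.ext
        have hw : w.val < 3 * q := by simp only [w]; omega
        rw [(liftFun_val _ _ _ hw).1]
        have hi : blockIdx (by norm_num : 0 < 3) w hw = i1 := Fin.ext (by simp only [blockIdx_val, w, i1]; omega)
        rw [hi, cyc_apply_last]
        simp only [w, j]
        omega
  · let z2 : Fin n := ⟨2, by omega⟩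
    obtain ⟨m1, m2, -⟩ := cyc_moves (a := z0) (b := z1) (c := z2) (by simp [z0, z1]) (by simp [z0, z2])
      (by simp [z1, z2])
    exact ⟨_, hlow z2 le_rfl (by simp only [z2]; omega),
      isThreeCycle_cyc (by simp [z0, z1]) (by simp [z0, z2]) (by simp [z1, z2]), m1, m2⟩

/-- Case `n = 3 q`, `q` not a power of 3. -/
theorem case_zero {q k : ℕ} (hn : n = 3 * q) (hk : 1 ≤ k) (h1 : 3 ^ k < q) (h2 : q < 3 ^ (k + 1)) :
    ∃ (P : Sylow 3 (alternatingGroup (Fin n))) (H1 H2 : Subgroup (alternatingGroup (Fin n))),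
      (P : Subgroup (alternatingGroup (Fin n))) ≤ H1 ∧ (P : Subgroup (alternatingGroup (Fin n))) ≤ H2 ∧
      H1 ≠ ⊤ ∧ H2 ≠ ⊤ ∧ H1 ⊔ H2 = ⊤ := by
  have h3 : 3 ≤ 3 ^ k := le_self_pow (by norm_num) (by omega)
  refine reduce (by omega) (wr (by norm_num) hn.ge (lowFix q (3 ^ k))) (lowFix n (3 * 3 ^ k))
    (wr (b := 3) (q := q) (by norm_num) hn.ge ⊤)
    (pow_dvd_card_wr hn.ge (by omega) (pow_dvd_card_lowFix k h1.le h2))
    (fun g hg _ => wr_le_lowFix _ hn.ge h1.le le_rfl hg) (fun g hg _ => wr_le_wr_top _ hn.ge _ hg)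
    (not_alt_le_lowFix (by omega) (by omega) (by omega)) (not_alt_le_wr _ _ (by norm_num) (by omega) _) ?_
  refine gen_zero hn h3 h1 _ fun x h2x hx => cyc_mem_lowFix ?_ ?_
  · simp only; omega
  · simp only; omega

/-- Case `n = 9 m`, `m` a power of 3. -/
theorem case_pow {m a : ℕ} (hm : m = 3 ^ a) (ha : 1 ≤ a) (hn : n = 3 * (3 * m)) :
    ∃ (P : Sylow 3 (alternatingGroup (Fin n))) (H1 H2 : Subgroup (alternatingGroup (Fin n))),
      (P : Subgroup (alternatingGroup (Fin n))) ≤ H1 ∧ (P : Subgroup (alternatingGroup (Fin n))) ≤ H2 ∧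
      H1 ≠ ⊤ ∧ H2 ≠ ⊤ ∧ H1 ⊔ H2 = ⊤ := by
  have h3 : 3 ≤ m := hm ▸ le_self_pow (by norm_num) (by omega)
  have hm0 : 0 < m := by omega
  have h3m : 0 < 3 * m := by omega
  have hJq : m * 3 ≤ 3 * m := by omega
  have hbig : 3 * m * 3 ≤ n := by omega
  have hJ : 3 ^ padicValNat 3 (3 * m) ! ∣ Nat.card (wr (n := 3 * m) (b := m) (q := 3) hm0 hJq ⊤) := by
    have e1 := val_three_factorial_mul m 0 (by norm_num)
    rw [add_zero] at e1
    have e2 := val_three_pow a
    rw [← hm] at e2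
    refine dvd_trans ?_ (card_wr_dvd hm0 hJq ⊤)
    rw [show padicValNat 3 (3 * m) ! = padicValNat 3 m ! * 3 + 1 by omega, pow_add, pow_mul,
      Subgroup.card_top, Nat.card_perm, Nat.card_fin]
    exact Nat.mul_dvd_mul (pow_dvd_pow_of_dvd pow_padicValNat_dvd 3) (by decide)
  refine reduce (by omega) (wr (by norm_num) hn.ge (wr (n := 3 * m) (b := m) (q := 3) hm0 hJq ⊤))
    (wr (b := 3 * m) (q := 3) h3m hbig ⊤) (wr (b := 3) (q := 3 * m) (by norm_num) hn.ge ⊤)
    (pow_dvd_card_wr hn.ge (by omega) hJ) ?_ (fun g hg _ => wr_le_wr_top _ hn.ge _ hg)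
    (not_alt_le_wr _ _ (by omega) (by norm_num) _) (not_alt_le_wr _ _ (by norm_num) (by omega) _) ?_
  · rintro g ⟨σ, ⟨τ, -, hτ⟩, hσ⟩ -
    refine ⟨τ, trivial, fun x hx => ?_⟩
    obtain ⟨e1, e2⟩ := hσ x (by omega)
    obtain ⟨e3, e4⟩ := hτ (blockIdx (b := 3) (q := 3 * m) (by norm_num) x (by omega)) (by
      have := (blockIdx (q := 3 * m) (by norm_num : 0 < 3) x (by omega)).isLt
      omega)
    refine ⟨by omega, ?_⟩
    rw [← Nat.div_div_eq_div_mul, e2, e4]
    congr 2
    apply Fin.ext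
    simp only [blockIdx_val]
    rw [Nat.div_div_eq_div_mul]
  · refine gen_zero hn h3 (by omega) _ fun x h2x hx => mul_mem ?_ ?_
    · exact swap_mem_wr _ _ (by simp only; omega) (by simp only; omega)
        (by simp only [Nat.zero_div]; rw [Nat.div_eq_of_lt (by omega)])
    · exact swap_mem_wr _ _ (by simp only; omega) (by omega)
        (by simp only [Nat.zero_div]; rw [Nat.div_eq_of_lt (by omega)])

/-- Outside `6`, `9` and `3^a + 1` two proper overgroups of a Sylow 3-subgroup generate `A_n`. -/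
theorem exists_overgroups (hn : 5 ≤ n) (h6 : n ≠ 6) (h9 : n ≠ 9) (hp : ∀ a, 2 ≤ a → n ≠ 3 ^ a + 1) :
    ∃ (P : Sylow 3 (alternatingGroup (Fin n))) (H1 H2 : Subgroup (alternatingGroup (Fin n))),
      (P : Subgroup (alternatingGroup (Fin n))) ≤ H1 ∧ (P : Subgroup (alternatingGroup (Fin n))) ≤ H2 ∧
      H1 ≠ ⊤ ∧ H2 ≠ ⊤ ∧ H1 ⊔ H2 = ⊤ := by
  have h1 : 3 ^ Nat.log 3 (n / 3) ≤ n / 3 := Nat.pow_log_le_self 3 (by omega)
  have h2 : n / 3 < 3 ^ (Nat.log 3 (n / 3) + 1) := Nat.lt_pow_succ_log_self (by norm_num) _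
  have hd := Nat.div_add_mod n 3
  have hr := Nat.mod_lt n (by norm_num : 0 < 3)
  generalize hk : Nat.log 3 (n / 3) = k at h1 h2
  generalize hq : n / 3 = q at h1 h2 hd
  generalize hs : n % 3 = r at hd hr
  obtain rfl | rfl | rfl : r = 2 ∨ r = 1 ∨ r = 0 := by omega
  · exact case_two (q := q) (by omega) hd.symm
  · refine case_one (q := q) (k := k) hd.symm (lt_of_le_of_ne h1 fun he => ?_) h2
    rcases Nat.eq_zero_or_pos k with rfl | hk0
    · simp at he; omega
    · exact hp (k + 1) (by omega) (by rw [pow_succ]; omega)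
  · by_cases he : 3 ^ k = q
    · obtain ⟨a, rfl⟩ : ∃ a, k = a + 2 := ⟨k - 2, by
        rcases k with - | - | k
        · simp at he; omega
        · simp at he; omega
        · omega⟩
      refine case_pow (m := 3 ^ (a + 1)) rfl (by omega) ?_
      rw [← pow_succ' 3, show a + 1 + 1 = a + 2 by omega, he]
      omega
    · have h1' := lt_of_le_of_ne h1 he
      refine case_zero (q := q) (k := k) (by omega) ?_ h1' h2
      rcases k with - | k
      · simp at h1' h2; omega
      · omega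

end Cfsg.Agent.ThreeMinAlt
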